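import Groth.Agent.ComodLib.Basic
import Groth.Prelude.Def_GLin
import Mathlib.RingTheory.Bialgebra.MonoidAlgebra

/-!
# Weight decomposition of comodules over a group algebra
-/

universe u v w

open TensorProduct

namespace Groth.Agent.TorusWeights

open Groth.Agent.ComodLib

variable {k : Type u} [Field k] {Λ : Type v} [AddCommGroup Λ]
variable {V : Type w} [AddCommGroup V] [Module k V] [HopfRep.Comod k (AddMonoidAlgebra k Λ) V]

local notation "ρ" => HopfRep.Comod.coact (k := k) (A := AddMonoidAlgebra k Λ)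

/-- The coefficient form. -/
noncomputable def cf (k : Type u) [Field k] (m : Λ) : AddMonoidAlgebra k Λ →ₗ[k] k :=
  (Finsupp.lapply m).comp (AddMonoidAlgebra.coeffLinearEquiv k).toLinearMap

theorem cf_single [DecidableEq Λ] (m a : Λ) (c : k) :
    cf k m (AddMonoidAlgebra.single a c) = if a = m then c else 0 := by
  simp [cf, Finsupp.single_apply]

/-- Taking the coefficient at a weight of a tensor. -/
noncomputable def coefT (m : Λ) : V ⊗[k] AddMonoidAlgebra k Λ →ₗ[k] V :=
  (TensorProduct.rid k V).toLinearMap ∘ₗ (cf k m).lTensor V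

@[simp] theorem coefT_tmul [DecidableEq Λ] (m a : Λ) (x : V) (c : k) :
    coefT (k := k) m (x ⊗ₜ AddMonoidAlgebra.single a c) = if a = m then c • x else 0 := by
  simp only [coefT, LinearMap.comp_apply, LinearMap.lTensor_tmul, LinearEquiv.coe_coe,
    TensorProduct.rid_tmul, cf_single, ite_smul, zero_smul]

theorem exists_sum (x : V ⊗[k] AddMonoidAlgebra k Λ) :
    ∃ (s : Finset Λ) (y : Λ → V), x = ∑ m ∈ s, y m ⊗ₜ AddMonoidAlgebra.single m (1 : k) := by
  classical
  induction x using TensorProduct.induction_on with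
  | zero => exact ⟨∅, 0, by simp⟩
  | tmul p q =>
    refine ⟨q.coeff.support, fun m => q.coeff m • p, ?_⟩
    conv_lhs => rw [← AddMonoidAlgebra.sum_single q]
    rw [Finsupp.sum, TensorProduct.tmul_sum]
    refine Finset.sum_congr rfl fun m _ => ?_
    rw [TensorProduct.smul_tmul, AddMonoidAlgebra.smul_single, smul_eq_mul, mul_one]
  | add p q hp hq =>
    obtain ⟨s, y, rfl⟩ := hp
    obtain ⟨t, z, rfl⟩ := hq
    refine ⟨s ∪ t, fun m => (if m ∈ s then y m else 0) + (if m ∈ t then z m else 0), ?_⟩
    simp only [TensorProduct.add_tmul, Finset.sum_add_distrib, TensorProduct.ite_tmul,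
      ← Finset.sum_filter, Finset.union_comm]
    congr 1 <;> refine Finset.sum_congr ?_ (fun _ _ => rfl) <;> ext <;> simp +contextual

theorem eq_sum_of_coact {f : V} {s : Finset Λ} {y : Λ → V}
    (h : ρ f = ∑ m ∈ s, y m ⊗ₜ AddMonoidAlgebra.single m (1 : k)) :
    f = ∑ m ∈ s, y m := by
  have := LinearMap.congr_fun (HopfRep.Comod.counit_comp (k := k) (A := AddMonoidAlgebra k Λ) (V := V)) f
  simp only [LinearMap.comp_apply, h, map_sum, LinearMap.lTensor_tmul, LinearMap.flip_apply,
    TensorProduct.mk_apply, AddMonoidAlgebra.counit_single, CommSemiring.counit_apply] at this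
  have := congrArg (TensorProduct.rid k V) this
  simpa [map_sum] using this.symm

/-- Every component of the coaction is an eigenvector. -/
theorem coact_component {f : V} {s : Finset Λ} {y : Λ → V}
    (h : ρ f = ∑ m ∈ s, y m ⊗ₜ AddMonoidAlgebra.single m (1 : k)) {m : Λ} (hm : m ∈ s) :
    ρ (y m) = y m ⊗ₜ AddMonoidAlgebra.single m (1 : k) := by
  classical
  have hco := LinearMap.congr_fun (HopfRep.Comod.coassoc (k := k) (A := AddMonoidAlgebra k Λ) (V := V)) f
  simp only [LinearMap.comp_apply, h, map_sum, LinearMap.rTensor_tmul, LinearMap.lTensor_tmul,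
    LinearEquiv.coe_coe, AddMonoidAlgebra.comul_single, CommSemiring.comul_apply,
    TensorProduct.map_tmul, AddMonoidAlgebra.lsingle_apply] at hco
  let Ψ := (((TensorProduct.rid k (AddMonoidAlgebra k Λ)).toLinearMap ∘ₗ
      (cf k m).lTensor (AddMonoidAlgebra k Λ)).lTensor V)
  have hΨ : ∀ (X : V ⊗[k] AddMonoidAlgebra k Λ) (b : Λ),
      Ψ (TensorProduct.assoc k V (AddMonoidAlgebra k Λ) (AddMonoidAlgebra k Λ)
        (X ⊗ₜ AddMonoidAlgebra.single b (1 : k))) = if b = m then X else 0 := by
    intro X b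
    induction X using TensorProduct.induction_on with
    | zero => simp
    | tmul p q =>
      simp only [Ψ, TensorProduct.assoc_tmul, LinearMap.lTensor_tmul, LinearMap.comp_apply,
        LinearEquiv.coe_coe, TensorProduct.rid_tmul, cf_single, ite_smul, one_smul, zero_smul]
      split_ifs <;> simp
    | add p q hp hq =>
      simp only [TensorProduct.add_tmul, map_add, hp, hq]
      split_ifs <;> simp
  have := congrArg Ψ hco
  simp only [map_sum, hΨ, Finset.sum_ite_eq', if_pos hm] at this
  rw [this, Finset.sum_eq_single m ?_ (fun h' => absurd hm h')]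
  · simp [Ψ, cf_single]
  · intro b _ hb
    simp [Ψ, cf_single, hb]

/-- Every vector is a sum of eigenvectors. -/
theorem exists_decomp (f : V) : ∃ (s : Finset Λ) (y : Λ → V),
    (∀ m ∈ s, y m ∈ HopfRep.eigenspace k (AddMonoidAlgebra k Λ) V (AddMonoidAlgebra.single m 1)) ∧
      f = ∑ m ∈ s, y m := by
  obtain ⟨s, y, h⟩ := exists_sum (ρ f)
  exact ⟨s, y, fun m hm => coact_component h hm, eq_sum_of_coact h⟩

variable (k) in
/-- The weight component. -/
noncomputable def comp_ (m : Λ) : V →ₗ[k] V := coefT m ∘ₗ ρ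

theorem comp_of_mem [DecidableEq Λ] {a : Λ} {f : V}
    (hf : f ∈ HopfRep.eigenspace k (AddMonoidAlgebra k Λ) V (AddMonoidAlgebra.single a 1)) (m : Λ) :
    comp_ k m f = if a = m then f else 0 := by
  have : ρ f = f ⊗ₜ AddMonoidAlgebra.single a (1 : k) := hf
  rw [comp_, LinearMap.comp_apply, this, coefT_tmul]
  simp

section Algebra

variable {R : Type w} [CommRing R] [Algebra k R] [HopfRep.Comod k (AddMonoidAlgebra k Λ) R]
  [GLin.IsCoactAlg k (AddMonoidAlgebra k Λ) R]

theorem mul_mem_eigenspace {a b : Λ} {f g : R}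
    (hf : f ∈ HopfRep.eigenspace k (AddMonoidAlgebra k Λ) R (AddMonoidAlgebra.single a 1))
    (hg : g ∈ HopfRep.eigenspace k (AddMonoidAlgebra k Λ) R (AddMonoidAlgebra.single b 1)) :
    f * g ∈ HopfRep.eigenspace k (AddMonoidAlgebra k Λ) R (AddMonoidAlgebra.single (a + b) 1) := by
  have h1 : ρ f = f ⊗ₜ AddMonoidAlgebra.single a (1 : k) := hf
  have h2 : ρ g = g ⊗ₜ AddMonoidAlgebra.single b (1 : k) := hg
  show ρ (f * g) = _
  rw [GLin.IsCoactAlg.coact_mul, h1, h2, Algebra.TensorProduct.tmul_mul_tmul,
    AddMonoidAlgebra.single_mul_single, one_mul]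

theorem mem_invariants_iff {f : R} : f ∈ GLin.invariants k (AddMonoidAlgebra k Λ) R ↔
    f ∈ HopfRep.eigenspace k (AddMonoidAlgebra k Λ) R (AddMonoidAlgebra.single (0 : Λ) 1) := by
  show ρ f = f ⊗ₜ (1 : AddMonoidAlgebra k Λ) ↔ ρ f = _
  rw [AddMonoidAlgebra.one_def]

theorem bijective_mk_comp_val
    (hpos : ∀ w : Λ, HopfRep.eigenspace k (AddMonoidAlgebra k Λ) R (AddMonoidAlgebra.single w 1) ≠ ⊥ →
      HopfRep.eigenspace k (AddMonoidAlgebra k Λ) R (AddMonoidAlgebra.single (-w) 1) ≠ ⊥ → w = 0) :
    Function.Bijective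
      ((Ideal.Quotient.mkₐ k (Ideal.span {f : R | ∃ w : Λ, w ≠ 0 ∧
          f ∈ HopfRep.eigenspace k (AddMonoidAlgebra k Λ) R (AddMonoidAlgebra.single w 1)})).comp
        (GLin.invariants k (AddMonoidAlgebra k Λ) R).val) := by
  classical
  set I := Ideal.span {f : R | ∃ w : Λ, w ≠ 0 ∧
    f ∈ HopfRep.eigenspace k (AddMonoidAlgebra k Λ) R (AddMonoidAlgebra.single w 1)}
  have hzero : ∀ f ∈ I, comp_ k (0 : Λ) f = 0 := by
    intro f hf
    induction hf using Submodule.span_induction with
    | mem g hg =>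
      obtain ⟨w, hw, hgw⟩ := hg
      rw [comp_of_mem hgw, if_neg hw]
    | zero => exact map_zero _
    | add g g' _ _ h h' => rw [map_add, h, h', add_zero]
    | smul r g hg h =>
      obtain ⟨s, y, hy, rfl⟩ := exists_decomp (k := k) (Λ := Λ) r
      obtain ⟨t, z, hz, rfl⟩ := exists_decomp (k := k) (Λ := Λ) g
      rw [smul_eq_mul, Finset.sum_mul_sum, map_sum]
      refine Finset.sum_eq_zero fun a ha => ?_
      rw [map_sum]
      refine Finset.sum_eq_zero fun b hb => ?_
      rw [comp_of_mem (mul_mem_eigenspace (hy a ha) (hz b hb))]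
      split_ifs with hab
      · by_cases h0 : b = 0
        · subst h0
          have := h
          rw [map_sum, Finset.sum_eq_single (0 : Λ)] at this
          · rw [comp_of_mem (hz 0 hb), if_pos rfl] at this
            rw [this, mul_zero]
          · intro c hc hc0
            rw [comp_of_mem (hz c hc), if_neg hc0]
          · intro h'; exact absurd hb h'
        · by_contra hne
          apply h0
          refine hpos b (fun he => hne ?_) (fun he => hne ?_)
          · have := hz b hb
            rw [he, Submodule.mem_bot] at this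
            rw [this, mul_zero]
          · have := hy a ha
            rw [show a = -b from eq_neg_of_add_eq_zero_left hab, he, Submodule.mem_bot] at this
            rw [show a = -b from eq_neg_of_add_eq_zero_left hab, this, zero_mul]
      · rfl
  constructor
  · rw [injective_iff_map_eq_zero]
    intro f hf
    have hfI : (f : R) ∈ I := Ideal.Quotient.eq_zero_iff_mem.mp hf
    have := hzero f hfI
    rw [comp_of_mem (mem_invariants_iff.mp f.2), if_pos rfl] at this
    exact Subtype.ext this
  · intro q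
    obtain ⟨f, rfl⟩ := Ideal.Quotient.mk_surjective q
    obtain ⟨s, y, hy, rfl⟩ := exists_decomp (k := k) (Λ := Λ) f
    refine ⟨⟨if (0 : Λ) ∈ s then y 0 else 0, ?_⟩, ?_⟩
    · split_ifs with h
      · exact mem_invariants_iff.mpr (hy 0 h)
      · exact zero_mem _
    · show Ideal.Quotient.mk I _ = Ideal.Quotient.mk I _
      rw [Ideal.Quotient.eq]
      rw [← Finset.sum_filter_add_sum_filter_not s (fun m => m = 0) y, Finset.sum_filter (fun m => m = 0),
        Finset.sum_ite_eq']
      have hrest : ∑ m ∈ s.filter (fun m => ¬ m = 0), y m ∈ I := Ideal.sum_mem _ fun m hm =>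
        Ideal.subset_span ⟨m, (Finset.mem_filter.mp hm).2, hy m (Finset.mem_filter.mp hm).1⟩
      split_ifs <;> simpa using hrest

end Algebra

end Groth.Agent.TorusWeights
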